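import Mathlib.Algebra.Algebra.Operations
import Mathlib.LinearAlgebra.Dual.Lemmas
import Mathlib.RingTheory.Ideal.Maps

/-!
# The square of a subspace of codimension one which embeds
-/

namespace Groth.Agent.ProjSp90

variable {k A : Type*} [Field k] [CommRing A] [Algebra k A]

theorem mul_self_eq_top (V : Submodule k A) (v : A) (hV : ∀ x, ∃ w ∈ V, ∃ c : k, x = w + c • v)
    (hgen : Ideal.span (V : Set A) = ⊤)
    (hemb : ∀ J : Ideal A, ∀ v₁ ∈ V, (∀ w ∈ V, ∃ c : k, w - c • v₁ ∈ J) →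
      ∀ x, ∃ c : k, x - algebraMap k A c ∈ J) :
    V * V = ⊤ := by
  by_cases hv : v ∈ V
  · have htop : V = ⊤ := eq_top_iff.2 fun x _ => by
      obtain ⟨w, hw, c, rfl⟩ := hV x
      exact V.add_mem hw (V.smul_mem c hv)
    subst htop
    exact eq_top_iff.2 fun x _ => by
      simpa using Submodule.mul_mem_mul (Submodule.mem_top (x := (1 : A))) (Submodule.mem_top (x := x))
  by_contra hne
  obtain ⟨μ, hμ, hμV⟩ := Submodule.exists_dual_map_eq_bot_of_lt_top (lt_top_iff_ne_top.2 hne)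
    inferInstance
  have hμ0 : ∀ a ∈ V, ∀ b ∈ V, μ (a * b) = 0 := fun a ha b hb => by
    have h : μ (a * b) ∈ (V * V).map μ := Submodule.mem_map_of_mem (Submodule.mul_mem_mul ha hb)
    rwa [hμV, Submodule.mem_bot] at h
  -- the ideal annihilated by the functional
  let K : Ideal A :=
    { carrier := {x | ∀ a, μ (x * a) = 0}
      add_mem' := fun {x y} hx hy a => by rw [add_mul, map_add, hx, hy, add_zero]
      zero_mem' := fun a => by rw [zero_mul, map_zero]
      smul_mem' := fun r x hx a => by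
        have h := hx (r * a)
        rwa [← mul_assoc, mul_comm x r] at h }
  have hc : ∀ w ∈ V, μ (w * v) = 0 → w ∈ K := fun w hw h a => by
    obtain ⟨w', hw', c, rfl⟩ := hV a
    rw [mul_add, map_add, hμ0 w hw w' hw', mul_smul_comm, map_smul, h, smul_zero, add_zero]
  obtain ⟨v₁, hv₁, hv₁v⟩ : ∃ v₁ ∈ V, μ (v₁ * v) ≠ 0 := by
    by_contra hall
    push Not at hall
    have hle : Ideal.span (V : Set A) ≤ K := Ideal.span_le.2 fun w hw => hc w hw (hall w hw)
    rw [hgen] at hle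
    refine hμ (LinearMap.ext fun a => ?_)
    simpa using (hle (Submodule.mem_top (x := (1 : A)))) a
  have hJ : ∀ w ∈ V, ∃ c : k, w - c • v₁ ∈ K := fun w hw =>
    ⟨μ (w * v) / μ (v₁ * v), hc _ (V.sub_mem hw (V.smul_mem _ hv₁)) (by
      rw [sub_mul, map_sub, smul_mul_assoc, map_smul, smul_eq_mul, div_mul_cancel₀ _ hv₁v, sub_self])⟩
  obtain ⟨a, ha⟩ := hemb K v₁ hv₁ hJ v₁
  obtain ⟨b, hb⟩ := hemb K v₁ hv₁ hJ v
  have e1 : μ (v₁ * v₁) = a * a * μ 1 := by
    have h1 := ha v₁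
    have h2 := ha (algebraMap k A a)
    rw [sub_mul, map_sub, sub_eq_zero] at h1 h2
    rw [h1, mul_comm, h2, ← map_mul, Algebra.algebraMap_eq_smul_one, map_smul, smul_eq_mul]
  have e2 : μ (v₁ * v) = a * b * μ 1 := by
    have h1 := ha v
    have h2 := hb (algebraMap k A a)
    rw [sub_mul, map_sub, sub_eq_zero] at h1 h2
    rw [h1, mul_comm, h2, ← map_mul, mul_comm b a, Algebra.algebraMap_eq_smul_one, map_smul, smul_eq_mul]
  rw [hμ0 v₁ hv₁ v₁ hv₁] at e1
  refine hv₁v (e2.trans ?_)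
  rcases mul_eq_zero.1 e1.symm with h | h
  · rw [mul_self_eq_zero.1 h, zero_mul, zero_mul]
  · rw [h, mul_zero]

end Groth.Agent.ProjSp90
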