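import Groth.Agent.ProjSp90.Alg
import Groth.Agent.PnCoh.Chow.PullFrame
import Groth.Agent.PnCoh.TwistH0
import Groth.Agent.Pic13Lib.Linear
import Groth.Agent.InvUfdLib.Semilocal
import Groth.Agent.InvX.GenLocusPull
import Groth.Agent.PicfLib.Trans
import Groth.Agent.H23.PnChart
import Mathlib.AlgebraicGeometry.Artinian
import Groth.Prelude.Def_Twist2

/-!
# Quadrics cut out the values on a finite subscheme embedded with defect one
-/

set_option linter.style.haveILetI false
set_option backward.isDefEq.respectTransparency false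
set_option backward.isDefEq.respectTransparency.types false
set_option maxHeartbeats 1000000

universe u

open CategoryTheory CategoryTheory.Limits AlgebraicGeometry TopologicalSpace Opposite MvPolynomial
open scoped Pointwise

noncomputable section

namespace Groth.Agent.ProjSp90

open Groth.Agent Groth.Agent.AModX Groth.Agent.InvX Groth.Agent.PnCoh.Chow

variable (k : Type u) [Field k] (N : ℕ)

local notation "𝒜" => CohB1.polyGrading N k

/-- Projective space. -/
abbrev P : Scheme.{u} := Proj 𝒜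

/-- The coordinate. -/
abbrev T (j : Fin (N + 1)) : MvPolynomial (Fin (N + 1)) k := X j

theorem T_mem (j : Fin (N + 1)) : T k N j ∈ 𝒜 1 := MvPolynomial.isHomogeneous_X k j

/-- The standard open. -/
abbrev U (j : Fin (N + 1)) : (P k N).Opens := Proj.basicOpen 𝒜 (T k N j)

theorem exists_mem_U (x : P k N) : ∃ j, x ∈ U k N j :=
  Pic13Lib.exists_X_notMem (k := k) (n := N) x

/-- The coordinate ratio. -/
abbrev rat (l j : Fin (N + 1)) : Γ(P k N, U k N j) := sRatio (T_mem k N l) (T_mem k N j)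

/-- Values of functions at a point. -/
def evalPt {W : (P k N).Opens} (x : W) : Γ(P k N, W) →+* Twist.A0 𝒜 x.1 where
  toFun f := f.1 x
  map_one' := rfl
  map_mul' _ _ := rfl
  map_zero' := rfl
  map_add' _ _ := rfl

theorem basicOpen_rat_le (l j : Fin (N + 1)) : (P k N).basicOpen (rat k N l j) ≤ U k N l := by
  intro x hx
  have hle := (P k N).basicOpen_le (rat k N l j)
  have h1 : IsUnit (resR hle (rat k N l j)) :=
    RingedSpace.isUnit_res_basicOpen (P k N).toRingedSpace (rat k N l j)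
  have h2 := (h1.map (evalPt k N ⟨x, hx⟩)).map
    (algebraMap (Twist.A0 𝒜 x) (Twist.Loc 𝒜 x))
  rw [HomogeneousLocalization.algebraMap_apply] at h2
  change IsUnit (((rat k N l j).1 ⟨x, hle hx⟩).val) at h2
  rw [sRatio_val, Localization.mk_eq_mk'] at h2
  exact (IsLocalization.AtPrime.isUnit_mk'_iff _ x.asHomogeneousIdeal.toIdeal _ _).1 h2

/-- A product of linear forms as a quadric. -/
def quad (l m : Fin (N + 1)) : 𝒜 2 := ⟨T k N l * T k N m, SetLike.mul_mem_graded (T_mem k N l) (T_mem k N m)⟩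

theorem res_globalOf_one (l j : Fin (N + 1)) :
    res (Twist.twist 𝒜 ((1 : ℕ) : ℤ)) (le_top : U k N j ≤ ⊤) (Twist.globalOf 𝒜 (i := 1) ⟨T k N l, T_mem k N l⟩) =
      rat k N l j • twF (T_mem k N j) ((1 : ℕ) : ℤ) := by
  refine Subtype.ext (funext fun x => Subtype.ext ?_)
  refine Eq.trans ?_ (Twist.coe_smul_val ((1 : ℕ) : ℤ) x.1 ((rat k N l j).1 x) _).symm
  show (Localization.mk (T k N l) _ : Twist.Loc 𝒜 x.1) = ((rat k N l j).1 x).val *
      Localization.mk (T k N j ^ (((1 : ℕ) : ℤ)).toNat) _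
  rw [sRatio_val, Localization.mk_mul, Localization.mk_eq_mk_iff, Localization.r_iff_exists]
  exact ⟨1, by simp [mul_comm]⟩

theorem res_globalOf_two (l m j : Fin (N + 1)) :
    res (Twist.twist 𝒜 ((2 : ℕ) : ℤ)) (le_top : U k N j ≤ ⊤) (Twist.globalOf 𝒜 (i := 2) (quad k N l m)) =
      (rat k N l j * rat k N m j) • twF (T_mem k N j) ((2 : ℕ) : ℤ) := by
  refine Subtype.ext (funext fun x => Subtype.ext ?_)
  refine Eq.trans ?_ (Twist.coe_smul_val ((2 : ℕ) : ℤ) x.1 ((rat k N l j * rat k N m j).1 x) _).symm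
  show (Localization.mk (T k N l * T k N m) _ : Twist.Loc 𝒜 x.1) =
      ((rat k N l j).1 x * (rat k N m j).1 x).val *
      Localization.mk (T k N j ^ (((2 : ℕ) : ℤ)).toNat) _
  rw [HomogeneousLocalization.val_mul, sRatio_val, sRatio_val, Localization.mk_mul, Localization.mk_mul,
    Localization.mk_eq_mk_iff, Localization.r_iff_exists]
  exact ⟨1, by simp [pow_two]; ring⟩

/-- A constant on the whole space. -/
abbrev cst (c : k) : Γ(P k N, ⊤) :=
  Coh.resTop _ (op ⊤) (Coh.toGlobal (CohB1.ProjSpace.toSpec N k) c)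

/-- A constant on a standard open. -/
abbrev cstU (j : Fin (N + 1)) (c : k) : Γ(P k N, U k N j) :=
  Coh.resTop _ (op (U k N j)) (Coh.toGlobal (CohB1.ProjSpace.toSpec N k) c)

theorem resR_cst (j : Fin (N + 1)) (c : k) : resR le_top (cst k N c) = cstU k N j c :=
  Coh.resTop_comp (op ⊤) (op (U k N j)) (homOfLE le_top).op (Coh.toGlobal (CohB1.ProjSpace.toSpec N k) c)

theorem awayToSection_base (j : Fin (N + 1)) (c : k) :
    (Proj.awayToSection 𝒜 (T k N j)).hom (ZetaLib.base N k j c) = cstU k N j c := by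
  refine Subtype.ext (funext fun x => HomogeneousLocalization.val_injective _ ?_)
  refine Eq.trans ?_ (Pic13Lib.global_val (k := k) (n := N) c (U k N j) x).symm
  erw [Proj.awayToSection, ProjectiveSpectrum.Proj.awayToSection_apply]
  rw [ZetaLib.val_base, IsLocalization.map_eq, RingHom.id_apply, ← Localization.mk_one_eq_algebraMap]

variable {k N}
variable {Z : Scheme.{u}} (i : Z ⟶ P k N)

/-- Restriction of a section. -/
def rho {d : ℤ} (s : Γ(Twist.twist 𝒜 d, ⊤)) : Γ(pullTw i d, (⊤ : Z.Opens)) := pullElt i s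

theorem res_rho {d : ℤ} (s : Γ(Twist.twist 𝒜 d, ⊤)) (j : Fin (N + 1)) :
    res (pullTw i d) (le_top : i ⁻¹ᵁ U k N j ≤ ⊤) (rho i s) =
      pullElt i (res (Twist.twist 𝒜 d) (le_top : U k N j ≤ ⊤) s) :=
  res_pullElt i le_top s

/-- A constant on the subscheme. -/
def kappa : k →+* Γ(Z, ⊤) :=
  (i.app ⊤).hom.comp ((Coh.resTop _ (op ⊤)).comp (Coh.toGlobal (CohB1.ProjSpace.toSpec N k)))

theorem kappa_apply (c : k) : kappa i c = i.app ⊤ (cst k N c) := rfl

variable [IsClosedImmersion i]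

/-- The algebraic form of the statement. -/
theorem main [IsAffine Z] [Finite Z] [DiscreteTopology Z] :
    ∀ v : Γ(pullTw i ((1 : ℕ) : ℤ), (⊤ : Z.Opens)),
      (∀ t, ∃ (s : Γ(Twist.twist 𝒜 ((1 : ℕ) : ℤ), ⊤)) (c : k), t = rho i s + kappa i c • v) →
      ∀ t : Γ(pullTw i ((2 : ℕ) : ℤ), (⊤ : Z.Opens)),
        ∃ s : Γ(Twist.twist 𝒜 ((2 : ℕ) : ℤ), ⊤), rho i s = t := by
  classical
  intro v hv
  letI : Algebra k Γ(Z, ⊤) := (kappa i).toAlgebra
  let Zj : Fin (N + 1) → Z.Opens := fun j => i ⁻¹ᵁ U k N j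
  have hcov : ∀ z : Z, ∃ j, z ∈ Zj j := fun z => exists_mem_U k N (i z)
  let r : ∀ l j, Γ(Z, Zj j) := fun l j => i.app (U k N j) (rat k N l j)
  -- a global frame
  have hinv : PicF.IsInvertible (pullTw i ((1 : ℕ) : ℤ)) := InvX.isInvertible_of_frames fun z => by
    obtain ⟨j, hj⟩ := hcov z
    exact ⟨Zj j, hj, _, isFrame_pFrame i (T_mem k N j) _⟩
  obtain ⟨O, e', hO, he'⟩ := InvUfdLib.exists_frame_finset hinv (isAffineOpen_top Z) Set.univ
    Set.finite_univ (Set.subset_univ _) (fun x _ y _ h => by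
      exact (specializes_iff_eq.1 h))
  have hO' : O = ⊤ := eq_top_iff.2 fun z _ => hO (Set.mem_univ z)
  subst hO'
  -- coordinates
  choose c hc using fun j => he'.exists_coord (le_top : Zj j ≤ ⊤) (pFrame i (T_mem k N j) ((1 : ℕ) : ℤ))
  choose a ha using fun l => he'.exists_coord (le_refl (⊤ : Z.Opens))
    (rho i (Twist.globalOf 𝒜 (i := 1) ⟨T k N l, T_mem k N l⟩))
  simp only [res_self] at ha
  have hcu : ∀ j, IsUnit (c j) := fun j =>
    PicfLib.Trans.isUnit_coord (he'.res le_top) (isFrame_pFrame i (T_mem k N j) _) (hc j)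
  have ha' : ∀ l j, resR le_top (a l) = r l j * c j := fun l j => by
    refine he'.coord_unique (le_top : Zj j ≤ ⊤) ?_
    rw [← res_smul, ← ha l, res_rho, res_globalOf_one, pullElt_smul, mul_smul, ← hc j]
    rfl
  have hZa : ∀ j, Zj j ≤ Z.basicOpen (a j) := fun j z hz => by
    have h1 : r j j = 1 := by
      show i.app (U k N j) (rat k N j j) = 1
      rw [show rat k N j j = 1 from Subtype.ext (funext fun x => HomogeneousLocalization.val_injective _ (by
        rw [sRatio_val]; erw [HomogeneousLocalization.val_one]; exact Localization.mk_self ⟨T k N j, x.2⟩)), map_one]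
    have h2 : IsUnit (resR (le_top : Zj j ≤ ⊤) (a j)) := by rw [ha' j j, h1, one_mul]; exact hcu j
    have h3 := h2.map (Z.presheaf.germ (Zj j) z hz).hom
    rw [germ_resR' (le_top : Zj j ≤ ⊤) hz] at h3
    exact (Z.mem_basicOpen (a j) z trivial).2 h3
  have haZ : ∀ j, Z.basicOpen (a j) ≤ Zj j := fun j z hz => by
    obtain ⟨m, hm⟩ := hcov z
    have h1 := (Z.mem_basicOpen (a j) z trivial).1 hz
    rw [← germ_resR' (le_top : Zj m ≤ ⊤) hm, ha' j m, map_mul] at h1
    have h2 : z ∈ Z.basicOpen (r j m) := (Z.mem_basicOpen (r j m) z hm).2 (isUnit_of_mul_isUnit_left h1)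
    rw [← Scheme.preimage_basicOpen] at h2
    exact basicOpen_rat_le k N j m h2
  -- the subspace of values
  let V : Submodule k Γ(Z, ⊤) := Submodule.span k (Set.range a)
  have hgen : Ideal.span (V : Set Γ(Z, ⊤)) = ⊤ := by
    refine eq_top_iff.2 (le_trans (ge_of_eq ?_) (Ideal.span_mono (Submodule.subset_span)))
    refine (IsAffineOpen.self_le_iSup_basicOpen_iff (isAffineOpen_top Z)).1 fun z _ => ?_
    obtain ⟨j, hj⟩ := hcov z
    exact Opens.mem_iSup.2 ⟨⟨a j, ⟨j, rfl⟩⟩, hZa j hj⟩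
  have hV : ∀ s : Γ(Twist.twist 𝒜 ((1 : ℕ) : ℤ), ⊤), ∃ w ∈ V, rho i s = w • e' := fun s => by
    obtain ⟨q, rfl⟩ := PnCoh.exists_globalOf_eq (R := k) (ι := Fin (N + 1)) (d := 1) s
    let g : ↥(𝒜 1) →+ Γ(pullTw i ((1 : ℕ) : ℤ), (⊤ : Z.Opens)) :=
      { toFun := fun q => rho i (Twist.globalOf 𝒜 (i := 1) q)
        map_zero' := by
          refine Eq.trans (congrArg (rho i) ?_) (map_zero ((((Scheme.Modules.pullbackPushforwardAdjunction i).unit.app
            (Twist.twist 𝒜 ((1 : ℕ) : ℤ))).app ⊤)).hom)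
          refine Subtype.ext (funext fun x => Subtype.ext ?_)
          exact Localization.mk_zero _
        map_add' := fun p q => by
          refine Eq.trans (congrArg (rho i) ?_) (map_add ((((Scheme.Modules.pullbackPushforwardAdjunction i).unit.app
            (Twist.twist 𝒜 ((1 : ℕ) : ℤ))).app ⊤)).hom _ _)
          exact PnCoh.globalOf_add p q }
    have hg : ∀ (x : k) (q : ↥(𝒜 1)), g (x • q) = kappa i x • g q := fun x q => by
      refine Eq.trans (congrArg (rho i) (PnCoh.globalOf_smul (R := k) (ι := Fin (N + 1)) (d := 1) x q)) ?_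
      exact pullElt_smul i (cst k N x) _
    have hsum : q = ∑ l, MvPolynomial.coeff (Finsupp.single l 1) q.1 • (⟨T k N l, T_mem k N l⟩ : ↥(𝒜 1)) := by
      refine Subtype.ext ?_
      rw [Submodule.coe_sum]
      simp only [Submodule.coe_smul]
      ext e
      rw [MvPolynomial.coeff_sum]
      simp only [MvPolynomial.coeff_smul, MvPolynomial.coeff_X', smul_eq_mul, mul_ite, mul_one, mul_zero]
      by_cases he : e.degree = 1
      · obtain ⟨l, rfl⟩ := (Set.ext_iff.1 Finsupp.range_single_one e).2 he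
        rw [Finset.sum_eq_single l (fun m _ hm => if_neg fun h => hm (Finsupp.single_left_injective one_ne_zero h))
          (fun h => absurd (Finset.mem_univ l) h), if_pos rfl]
      · rw [Finset.sum_eq_zero fun m _ => if_neg (c := Finsupp.single m 1 = e) fun h => he (h ▸ Finsupp.degree_single m 1)]
        exact MvPolynomial.IsHomogeneous.coeff_eq_zero q.2 he
    refine ⟨∑ l, MvPolynomial.coeff (Finsupp.single l 1) q.1 • a l,
      V.sum_mem fun l _ => V.smul_mem _ (Submodule.subset_span ⟨l, rfl⟩), ?_⟩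
    show g q = _
    conv_lhs => rw [hsum]
    rw [map_sum, Finset.sum_smul]
    refine Finset.sum_congr rfl fun l _ => ?_
    rw [hg, Algebra.smul_def, mul_smul, ← ha l]
    rfl
  obtain ⟨v', hv'⟩ := (he' ⊤ le_rfl).2 v
  simp only [res_self] at hv'
  have hhyp : ∀ x : Γ(Z, ⊤), ∃ w ∈ V, ∃ c : k, x = w + c • v' := fun x => by
    obtain ⟨s, c, hs⟩ := hv (x • e')
    obtain ⟨w, hw, hw'⟩ := hV s
    refine ⟨w, hw, c, he'.coord_unique le_rfl ?_⟩
    rw [res_self, hs, hw', ← hv', Algebra.smul_def, add_smul, mul_smul]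
    rfl
  have hemb : ∀ J : Ideal Γ(Z, ⊤), ∀ v₁ ∈ V, (∀ w ∈ V, ∃ c : k, w - c • v₁ ∈ J) →
      ∀ x, ∃ c : k, x - algebraMap k Γ(Z, ⊤) c ∈ J := by
    intro J v₁ _ hJ x
    let B := Γ(Z, ⊤) ⧸ J
    let π : Γ(Z, ⊤) →+* B := Ideal.Quotient.mk J
    rcases subsingleton_or_nontrivial B with hB | hB
    · refine ⟨0, Ideal.Quotient.eq_zero_iff_mem.1 ?_⟩
      exact Subsingleton.elim (α := B) _ _
    have hcl : ∀ l, ∃ cl : k, π (a l) = π (algebraMap k _ cl) * π v₁ := fun l => by
      obtain ⟨cl, hcl⟩ := hJ (a l) (Submodule.subset_span ⟨l, rfl⟩)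
      refine ⟨cl, ?_⟩
      rw [← map_mul, ← Algebra.smul_def]
      exact Ideal.Quotient.eq.2 hcl
    choose cl hcl using hcl
    have hv₁ : IsUnit (π v₁) := by
      have h1 : Ideal.span (V : Set Γ(Z, ⊤)) ≤ (Ideal.span {π v₁}).comap π := Ideal.span_le.2 fun w hw => by
        obtain ⟨d, hd⟩ := hJ w hw
        show π w ∈ Ideal.span {π v₁}
        rw [show π w = π (d • v₁) from Ideal.Quotient.eq.2 hd, Algebra.smul_def, map_mul]
        exact Ideal.mul_mem_left _ _ (Ideal.mem_span_singleton_self _)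
      rw [hgen] at h1
      refine Ideal.span_singleton_eq_top.1 ((Ideal.eq_top_iff_one _).2 ?_)
      simpa using h1 (Submodule.mem_top (x := (1 : Γ(Z, ⊤))))
    obtain ⟨j, hj⟩ : ∃ j, cl j ≠ 0 := by
      by_contra hall
      push Not at hall
      have h1 : Ideal.span (V : Set Γ(Z, ⊤)) ≤ J := Ideal.span_le.2 fun w hw => by
        induction hw using Submodule.span_induction with
        | mem w hw =>
          obtain ⟨l, rfl⟩ := hw
          refine Ideal.Quotient.eq_zero_iff_mem.1 ?_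
          show π (a l) = 0
          rw [hcl, hall l, map_zero, map_zero, zero_mul]
        | zero => exact J.zero_mem
        | add _ _ _ _ h h' => exact J.add_mem h h'
        | smul d _ _ h =>
          rw [Algebra.smul_def]
          exact J.mul_mem_left _ h
      rw [hgen] at h1
      exact one_ne_zero ((Ideal.Quotient.eq_zero_iff_mem).2 (h1 (Submodule.mem_top (x := (1 : Γ(Z, ⊤))))) :
        (1 : B) = 0)
    have huj : IsUnit (π (a j)) := by
      rw [hcl]
      exact (((isUnit_iff_ne_zero.2 hj).map (algebraMap k Γ(Z, ⊤))).map π).mul hv₁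
    haveI : IsLocalization.Away (a j) Γ(Z, Z.basicOpen (a j)) :=
      (isAffineOpen_top Z).isLocalization_basicOpen (a j)
    let ℓ : Γ(Z, Z.basicOpen (a j)) →+* B := IsLocalization.Away.lift (a j) (g := π) huj
    let Φ : HomogeneousLocalization.Away 𝒜 (T k N j) →+* B :=
      ℓ.comp ((resR (haZ j)).comp ((i.app (U k N j)).hom.comp (Proj.awayToSection 𝒜 (T k N j)).hom))
    have hΦsurj : Function.Surjective Φ := fun b => by
      obtain ⟨x, rfl⟩ := Ideal.Quotient.mk_surjective b
      obtain ⟨q, hq⟩ := i.app_surjective (U k N j)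
        (Proj.isAffineOpen_basicOpen 𝒜 _ (T_mem k N j) Nat.one_pos) (resR (le_top : Zj j ≤ ⊤) x)
      obtain ⟨z, hz⟩ := (ConcreteCategory.bijective_of_isIso
        (Proj.basicOpenIsoAway 𝒜 (T k N j) (T_mem k N j) Nat.one_pos).hom).2 q
      refine ⟨z, ?_⟩
      show ℓ (resR (haZ j) (i.app (U k N j) ((Proj.awayToSection 𝒜 (T k N j)).hom z))) = _
      rw [show (Proj.awayToSection 𝒜 (T k N j)).hom z = q from hz, hq, resR_resR]
      exact IsLocalization.Away.lift_eq (S := Γ(Z, Z.basicOpen (a j))) (a j) huj x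
    have hℓ : ∀ y, ℓ (resR (Z.basicOpen_le (a j)) y) = π y := fun y =>
      IsLocalization.Away.lift_eq (S := Γ(Z, Z.basicOpen (a j))) (a j) huj y
    have hbase : ∀ d : k, Φ (ZetaLib.base N k j d) = π (algebraMap k _ d) := fun d => by
      rw [← hℓ]
      show ℓ (resR (haZ j) (i.app (U k N j) ((Proj.awayToSection 𝒜 (T k N j)).hom (ZetaLib.base N k j d)))) = _
      rw [awayToSection_base, ← resR_cst]
      refine congrArg ℓ ?_
      have h1 := ConcreteCategory.congr_hom (i.naturality (homOfLE (le_top : U k N j ≤ ⊤)).op) (cst k N d)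
      rw [show i.app (U k N j) (resR le_top (cst k N d)) = resR (le_top : Zj j ≤ ⊤) (kappa i d) from h1, resR_resR]
      rfl
    have hcoord : ∀ l, Φ (ZetaLib.coord N k j l) = π (algebraMap k _ (cl l / cl j)) := fun l => by
      have e1 : Φ (ZetaLib.coord N k j l) * π (a j) = π (a l) := by
        show ℓ (resR (haZ j) (r l j)) * π (a j) = π (a l)
        rw [← hℓ (a j), ← hℓ (a l), ← map_mul,
          show resR (Z.basicOpen_le (a j)) (a j) = resR (haZ j) (resR le_top (a j)) from (resR_resR _ _ _).symm,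
          show resR (Z.basicOpen_le (a j)) (a l) = resR (haZ j) (resR le_top (a l)) from (resR_resR _ _ _).symm,
          ha' l j, ha' j j, ← map_mul]
        refine congrArg (fun q => ℓ (resR (haZ j) q)) ?_
        rw [show r j j = 1 from ?_, one_mul]
        show i.app (U k N j) (rat k N j j) = 1
        rw [show rat k N j j = 1 from Subtype.ext (funext fun x => HomogeneousLocalization.val_injective _ (by
          rw [sRatio_val]; erw [HomogeneousLocalization.val_one]; exact Localization.mk_self ⟨T k N j, x.2⟩)), map_one]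
      refine huj.mul_left_injective ?_
      show _ * _ = _ * _
      rw [e1, hcl l, hcl j, ← mul_assoc, ← map_mul π (algebraMap k _ (cl l / cl j)) (algebraMap k _ (cl j)), ← map_mul (algebraMap k Γ(Z, ⊤)), div_mul_cancel₀ _ hj]
    obtain ⟨z, hz⟩ := hΦsurj (π x)
    obtain ⟨p, rfl⟩ := ZetaLib.surjective_dehom N k j z
    refine ⟨MvPolynomial.eval (fun l => cl l / cl j) p, Ideal.Quotient.eq.1 (hz.symm.trans ?_)⟩
    have : Φ.comp (ZetaLib.dehom N k j) =
        (π.comp (algebraMap k Γ(Z, ⊤))).comp (MvPolynomial.eval fun l => cl l / cl j) := by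
      apply MvPolynomial.ringHom_ext
      · intro d; simpa [ZetaLib.dehom] using hbase d
      · intro l; simpa [ZetaLib.dehom] using hcoord l
    exact RingHom.congr_fun this p
  have hsq : V * V = ⊤ := mul_self_eq_top V v' hhyp hgen hemb
  -- the frame of the restriction of quadrics
  have hrat : ∀ p q : Fin (N + 1), ∀ (W : Z.Opens) (hp : W ≤ Zj p) (hq : W ≤ Zj q),
      resR hq (c q) = ProjUPX.ratioOf i (T_mem k N q) (T_mem k N p) hp * resR hp (c p) := fun p q W hp hq => by
    refine he'.coord_unique (le_top : W ≤ ⊤) ?_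
    have h := res_pFrame i (T_mem k N p) (T_mem k N q) 1 hp hq
    rw [pow_one, hc p, hc q, res_smul, res_smul, res_res, res_res] at h
    rw [h, mul_smul]
  let f : ∀ j, Γ(pullTw i ((2 : ℕ) : ℤ), Zj j) := fun j =>
    ((↑((hcu j).unit⁻¹) : Γ(Z, Zj j)) ^ 2) • pFrame i (T_mem k N j) ((2 : ℕ) : ℤ)
  obtain ⟨e₂, he₂, -⟩ := AModX.existsUnique_glue (M := pullTw i ((2 : ℕ) : ℤ)) (V := ⊤)
    (fun j : ULift.{u} (Fin (N + 1)) => Zj j.down) (fun _ => le_top)
    (fun z _ => let ⟨j, hj⟩ := hcov z; ⟨⟨j⟩, hj⟩) (fun j => f j.down) fun p q => by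
      have hp : Zj p.down ⊓ Zj q.down ≤ Zj p.down := inf_le_left
      have hq : Zj p.down ⊓ Zj q.down ≤ Zj q.down := inf_le_right
      show res _ hp (f p.down) = res _ hq (f q.down)
      simp only [f, res_smul, map_pow]
      rw [res_pFrame i (T_mem k N p.down) (T_mem k N q.down) 2 hp hq, smul_smul]
      refine congrArg (fun t => t • res (pullTw i ((2 : ℕ) : ℤ)) hp (pFrame i (T_mem k N p.down) ((2 : ℕ) : ℤ))) ?_
      have h := hrat p.down q.down _ hp hq
      rw [← mul_pow]
      refine congrArg (· ^ 2) ?_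
      have h1 : resR hp (↑((hcu p.down).unit⁻¹)) * resR hp (c p.down) = 1 := by
        rw [← map_mul, IsUnit.val_inv_mul, map_one]
      have h2 : resR hq (↑((hcu q.down).unit⁻¹)) * resR hq (c q.down) = 1 := by
        rw [← map_mul, IsUnit.val_inv_mul, map_one]
      linear_combination (resR hp (↑((hcu p.down).unit⁻¹)) * resR hq (↑((hcu q.down).unit⁻¹))) * h -
        resR hp (↑((hcu p.down).unit⁻¹)) * h2 +
        ProjUPX.ratioOf i (T_mem k N q.down) (T_mem k N p.down) hp * resR hq (↑((hcu q.down).unit⁻¹)) * h1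
  have hquad : ∀ l m, rho i (Twist.globalOf 𝒜 (i := 2) (quad k N l m)) = (a l * a m) • e₂ := fun l m => by
    refine eq_of_locally _ _ fun z _ => ?_
    obtain ⟨j, hj⟩ := hcov z
    refine ⟨Zj j, le_top, hj, ?_⟩
    rw [res_rho, res_globalOf_two, pullElt_smul, res_smul, he₂ ⟨j⟩, smul_smul, map_mul, map_mul, ha', ha']
    refine congrArg (· • pFrame i (T_mem k N j) ((2 : ℕ) : ℤ)) ?_
    show r l j * r m j = r l j * c j * (r m j * c j) * (↑((hcu j).unit⁻¹)) ^ 2
    linear_combination (-(r l j * r m j * ((↑((hcu j).unit⁻¹) * c j + 1)))) * (hcu j).val_inv_mul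
  have he₂f : ∀ t, ∃ x : Γ(Z, ⊤), t = x • e₂ := by
    intro t
    have hfr : IsFrame e₂ := InvUfdLib.isFrame_of_cover (fun j : ULift.{u} (Fin (N + 1)) => Zj j.down)
      (fun _ => le_top) (fun z _ => let ⟨j, hj⟩ := hcov z; ⟨⟨j⟩, hj⟩) e₂ fun j => by
        rw [he₂ j]
        exact (isFrame_pFrame i (T_mem k N j.down) _).isUnit_smul ((hcu j.down).unit⁻¹.isUnit.pow 2)
    obtain ⟨x, hx⟩ := hfr.exists_coord le_rfl t
    exact ⟨x, by rwa [res_self] at hx⟩
  intro t
  obtain ⟨x, rfl⟩ := he₂f t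
  have hx : x ∈ V * V := hsq ▸ Submodule.mem_top
  let g : Γ(Twist.twist 𝒜 ((2 : ℕ) : ℤ), ⊤) →+ Γ(pullTw i ((2 : ℕ) : ℤ), (⊤ : Z.Opens)) :=
    (((Scheme.Modules.pullbackPushforwardAdjunction i).unit.app (Twist.twist 𝒜 ((2 : ℕ) : ℤ))).app ⊤).hom
  have hsmul : ∀ (d : k) (s : Γ(Twist.twist 𝒜 ((2 : ℕ) : ℤ), ⊤)), g (cst k N d • s) = kappa i d • g s :=
    fun d s => pullElt_smul i (cst k N d) s
  rw [show V * V = Submodule.span k (Set.range a * Set.range a) from Submodule.span_mul_span _ _ _] at hx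
  induction hx using Submodule.span_induction with
  | mem y hy =>
    obtain ⟨_, ⟨l, rfl⟩, _, ⟨m, rfl⟩, rfl⟩ := Set.mem_mul.1 hy
    exact ⟨_, hquad l m⟩
  | zero => exact ⟨0, (map_zero g).trans (zero_smul _ _).symm⟩
  | add y y' _ _ h h' =>
    obtain ⟨s, hs⟩ := h
    obtain ⟨s', hs'⟩ := h'
    exact ⟨s + s', (map_add g s s').trans ((congrArg₂ (· + ·) hs hs').trans (add_smul _ _ _).symm)⟩
  | smul d y _ h =>
    obtain ⟨s, hs⟩ := h
    refine ⟨cst k N d • s, (hsmul d s).trans ?_⟩
    rw [show g s = y • e₂ from hs, Algebra.smul_def, mul_smul]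
    rfl

end Groth.Agent.ProjSp90
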